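import Groth.Agent.Fga.QTPull2
import Mathlib.RingTheory.Spectrum.Prime.FreeLocus
import Mathlib.RingTheory.Jacobson.Ring
import Mathlib.FieldTheory.IsAlgClosed.Basic

/-!
# Algebra for cohomology and base change at closed points

* `exists_point` : maximal ideals of finite type algebras over an algebraically closed field are kernels of points;
* `mem_of_isBC`, `surjective_of_isBC` : base change along a surjection `A → B` with kernel `I` is `M → M / I M`;
* `sup_eq_top_of_isBC`, `eq_top_of_maximal` : Nakayama;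
* `rank_of_isBC` : the rank at the stalk at the kernel of a point;
* `exists_basis_of_isBC` : base change of bases.
-/

set_option autoImplicit false
universe u

open TensorProduct

namespace K679.ClosedAlg

open Groth.Agent.CohqA.BaseChangeMod Groth.Agent.Fga.QTPull

theorem exists_point {k B : Type u} [Field k] [IsAlgClosed k] [CommRing B] (c : k →+* B) (hc : c.FiniteType)
    (𝔪 : Ideal B) [𝔪.IsMaximal] : ∃ ρ : B →+* k, ρ.comp c = RingHom.id k ∧ RingHom.ker ρ = 𝔪 := by
  algebraize [c]
  let _ : Field (B ⧸ 𝔪) := Ideal.Quotient.field 𝔪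
  have h1 : Algebra.FiniteType k (B ⧸ 𝔪) :=
    Algebra.FiniteType.of_surjective (Ideal.Quotient.mkₐ k 𝔪) Ideal.Quotient.mk_surjective
  have h2 : Module.Finite k (B ⧸ 𝔪) := finite_of_finite_type_of_isJacobsonRing k (B ⧸ 𝔪)
  have h3 : Function.Bijective (algebraMap k (B ⧸ 𝔪)) := IsAlgClosed.algebraMap_bijective_of_isIntegral
  let e : k ≃+* (B ⧸ 𝔪) := RingEquiv.ofBijective (algebraMap k (B ⧸ 𝔪)) h3
  refine ⟨(e.symm : (B ⧸ 𝔪) →+* k).comp (Ideal.Quotient.mk 𝔪), ?_, ?_⟩
  · ext x
    change e.symm (Ideal.Quotient.mk 𝔪 (c x)) = x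
    exact e.symm_apply_apply x
  · ext x
    rw [RingHom.mem_ker]
    change e.symm (Ideal.Quotient.mk 𝔪 x) = 0 ↔ _
    rw [EmbeddingLike.map_eq_zero_iff, Ideal.Quotient.eq_zero_iff_mem]

section BC

variable {A B : Type u} [CommRing A] [CommRing B] {φ : A →+* B} (hφ : Function.Surjective φ) {M N : Type u}
  [AddCommGroup M] [Module A M] [AddCommGroup N] [Module B N] {θ : M →+ N}

include hφ

theorem mem_of_isBC (h : IsBC φ θ) {x : M} (hx : θ x = 0) : x ∈ RingHom.ker φ • (⊤ : Submodule A M) := by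
  let Q := M ⧸ (RingHom.ker φ • (⊤ : Submodule A M))
  let e : (A ⧸ RingHom.ker φ) ≃+* B := RingHom.quotientKerEquivOfSurjective hφ
  let _ : Module B Q := Module.compHom Q (e.symm : B →+* (A ⧸ RingHom.ker φ))
  let g : M →+ Q := (Submodule.mkQ _).toAddMonoidHom
  have hg : ∀ (r : A) (x : M), g (r • x) = φ r • g x := by
    intro r x
    have h1 : e.symm (φ r) = Ideal.Quotient.mk _ r := by
      rw [RingEquiv.symm_apply_eq]
      rfl
    change g (r • x) = e.symm (φ r) • g x
    rw [h1]
    rfl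
  obtain ⟨g', hg', -⟩ := h.lift Q g hg
  have h2 := hg' x
  rw [hx, map_zero] at h2
  exact (Submodule.Quotient.mk_eq_zero _).1 h2.symm

theorem surjective_of_isBC (h : IsBC φ θ) : Function.Surjective θ := by
  intro y
  have hy : y ∈ Submodule.span B (Set.range θ) := by rw [span_range_of_isBC h]; trivial
  induction hy using Submodule.span_induction with
  | mem y hy => exact hy
  | zero => exact ⟨0, map_zero _⟩
  | add y z _ _ hy hz =>
    obtain ⟨a, rfl⟩ := hy
    obtain ⟨b, rfl⟩ := hz
    exact ⟨a + b, map_add _ _ _⟩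
  | smul b y _ hy =>
    obtain ⟨a, rfl⟩ := hy
    obtain ⟨r, rfl⟩ := hφ b
    exact ⟨r • a, h.map_smul r a⟩

theorem sup_eq_top_of_isBC (h : IsBC φ θ) (M' : Submodule A M)
    (hM' : Submodule.span B (θ '' (M' : Set M)) = ⊤) : M' ⊔ RingHom.ker φ • (⊤ : Submodule A M) = ⊤ := by
  rw [eq_top_iff]
  intro x _
  have hy : θ x ∈ Submodule.span B (θ '' (M' : Set M)) := by rw [hM']; trivial
  have key : ∀ y ∈ Submodule.span B (θ '' (M' : Set M)), ∃ m ∈ M', θ m = y := by
    intro y hy
    induction hy using Submodule.span_induction with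
    | mem y hy => exact hy
    | zero => exact ⟨0, M'.zero_mem, map_zero _⟩
    | add y z _ _ hy hz =>
      obtain ⟨a, ha, rfl⟩ := hy
      obtain ⟨b, hb, rfl⟩ := hz
      exact ⟨a + b, M'.add_mem ha hb, map_add _ _ _⟩
    | smul b y _ hy =>
      obtain ⟨a, ha, rfl⟩ := hy
      obtain ⟨r, rfl⟩ := hφ b
      exact ⟨r • a, M'.smul_mem r ha, h.map_smul r a⟩
  obtain ⟨m, hm, hmx⟩ := key _ hy
  have h1 : x - m ∈ RingHom.ker φ • (⊤ : Submodule A M) :=
    mem_of_isBC hφ h (by rw [map_sub, hmx, sub_self])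
  have h2 := Submodule.add_mem_sup hm h1
  rwa [add_sub_cancel] at h2

end BC

theorem eq_top_of_maximal {A M : Type*} [CommRing A] [AddCommGroup M] [Module A M] [Module.Finite A M]
    (M' : Submodule A M) (h : ∀ 𝔫 : Ideal A, 𝔫.IsMaximal → M' ⊔ 𝔫 • (⊤ : Submodule A M) = ⊤) : M' = ⊤ := by
  by_contra hne
  have h1 : Module.annihilator A (M ⧸ M') ≠ ⊤ := by
    intro h2
    rw [Module.annihilator_eq_top_iff] at h2
    exact hne (Submodule.Quotient.subsingleton_iff.1 h2)
  obtain ⟨𝔫, h𝔫, hle⟩ := Ideal.exists_le_maximal _ h1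
  have h3 : (⊤ : Submodule A (M ⧸ M')) ≤ 𝔫 • ⊤ := by
    have h4 := congrArg (Submodule.map M'.mkQ) (h 𝔫 h𝔫)
    rw [Submodule.map_sup, Submodule.map_smul'', Submodule.map_top, Submodule.range_mkQ,
      Submodule.mkQ_map_self, bot_sup_eq] at h4
    exact h4.ge
  obtain ⟨r, hr, hr'⟩ := Submodule.exists_sub_one_mem_and_smul_eq_zero_of_fg_of_le_smul 𝔫 ⊤
    Module.Finite.fg_top h3
  have h5 : r ∈ 𝔫 := hle (Module.mem_annihilator.2 fun x => hr' x trivial)
  apply h𝔫.ne_top
  rw [Ideal.eq_top_iff_one]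
  have h6 := 𝔫.sub_mem h5 hr
  rwa [sub_sub_cancel] at h6

section Rank

variable {A : Type u} [CommRing A] {k : Type u} [Field k] {M N : Type u}
  [AddCommGroup M] [Module A M] [AddCommGroup N] [Module k N] {θ : M →+ N}

theorem rank_of_isBC {ρ : A →+* k} (h : IsBC ρ θ) [Module.Finite A M] [Module.Flat A M] (p : PrimeSpectrum A)
    (hp : RingHom.ker ρ ≤ p.asIdeal ∨ p.asIdeal ≤ RingHom.ker ρ) :
    Module.rankAtStalk (R := A) M p = Module.finrank k N := by
  algebraize [ρ]
  let _ : Module A N := Module.compHom N ρ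
  have : IsScalarTower A k N := ⟨fun a b n => by
    rw [Algebra.smul_def, mul_smul]
    rfl⟩
  let f : M →ₗ[A] N := { θ with map_smul' := h.map_smul }
  have hf : IsBaseChange k f := (isBC_iff_isBaseChange f).1 h
  have : Module.Finite k N := by
    have h0 : Module.Finite k (k ⊗[A] M) := inferInstance
    exact Module.Finite.equiv hf.equiv
  let q : PrimeSpectrum k := ⊥
  have h1 := Module.rankAtStalk_isBaseChange hf q
  have h2 : Module.rankAtStalk (R := k) N q = Module.finrank k N :=
    congrFun (Module.rankAtStalk_eq_finrank_of_free (R := k) (M := N)) q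
  have h3 : (PrimeSpectrum.comap (algebraMap A k) q).asIdeal = RingHom.ker ρ := rfl
  rw [← h2, h1]
  rcases hp with hp | hp
  · exact (Module.rankAtStalk_eq_of_le_of_finite_of_flat (M := M)
      (p := PrimeSpectrum.comap (algebraMap A k) q) (q := p) (by
        change (PrimeSpectrum.comap (algebraMap A k) q).asIdeal ≤ _
        rw [h3]; exact hp)).symm
  · exact Module.rankAtStalk_eq_of_le_of_finite_of_flat (M := M)
      (q := PrimeSpectrum.comap (algebraMap A k) q) (p := p) (by
        change _ ≤ (PrimeSpectrum.comap (algebraMap A k) q).asIdeal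
        rw [h3]; exact hp)

end Rank

section Basis

variable {A B : Type u} [CommRing A] [CommRing B] {φ : A →+* B} {M N : Type u}
  [AddCommGroup M] [Module A M] [AddCommGroup N] [Module B N] {θ : M →+ N}

theorem exists_basis_of_isBC (h : IsBC φ θ) {ι : Type*} (b : Module.Basis ι A M) :
    ∃ b' : Module.Basis ι B N, ∀ i, b' i = θ (b i) := by
  algebraize [φ]
  let _ : Module A N := Module.compHom N φ
  have : IsScalarTower A B N := ⟨fun a b n => by
    rw [Algebra.smul_def, mul_smul]
    rfl⟩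
  let f : M →ₗ[A] N := { θ with map_smul' := h.map_smul }
  have hf : IsBaseChange B f := (isBC_iff_isBaseChange f).1 h
  refine ⟨(b.baseChange B).map hf.equiv, fun i => ?_⟩
  rw [Module.Basis.map_apply, Module.Basis.baseChange_apply, IsBaseChange.equiv_tmul, one_smul]
  rfl

end Basis

end K679.ClosedAlg
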