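import Groth.Agent.Coherent.K679.ClosedAlg
import Mathlib.RingTheory.Support

/-!
# Algebra for frames

* `linearIndependent_of_span` : `a` generators of a finite projective module of rank `a` are independent;
* `exists_gen_nhd` : a finite module whose stalk at `p` is free of rank `a` is generated by `a` elements after inverting
  some `r ∉ p`;
* `exists_basis_of_gen` : base change to a ring in which `r` is a unit.
-/

set_option autoImplicit false
universe u

open TensorProduct

namespace K679.FrmAlg

open Groth.Agent Groth.Agent.CohqA.BaseChangeMod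

section Span

variable {B M : Type*} [CommRing B] [AddCommGroup M] [Module B M] [Module.Finite B M] [Module.Projective B M] {a : ℕ}

theorem linearIndependent_of_span (hr : ∀ p : PrimeSpectrum B, Module.rankAtStalk (R := B) M p = a) (v : Fin a → M)
    (hv : Submodule.span B (Set.range v) = ⊤) : LinearIndependent B v := by
  let f : (Fin a → B) →ₗ[B] M := Fintype.linearCombination B v
  have hf : Function.Surjective f := by
    rw [← LinearMap.range_eq_top, Fintype.range_linearCombination]
    exact hv
  obtain ⟨s, hs⟩ := Module.projective_lifting_property f LinearMap.id hf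
  let e : (Fin a → B) ≃ₗ[B] LinearMap.ker f × M :=
    LinearEquiv.ofBijective ((LinearMap.id - s.comp f).codRestrict (LinearMap.ker f) (fun x => by
      rw [LinearMap.mem_ker]
      have h1 : f (s (f x)) = f x := congr($hs (f x))
      change f (x - s (f x)) = 0
      rw [map_sub, h1, sub_self]) |>.prod f) ⟨by
        intro x y hxy
        have h1 : x - s (f x) = y - s (f y) := congrArg (fun z => (z.1 : Fin a → B)) hxy
        have h2 : f x = f y := congrArg Prod.snd hxy
        rw [h2] at h1
        exact sub_left_inj.1 h1, by
        rintro ⟨⟨x, hx⟩, m⟩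
        refine ⟨x + s m, Prod.ext (Subtype.ext ?_) ?_⟩
        · have h1 : f (s m) = m := congr($hs m)
          change x + s m - s (f (x + s m)) = x
          rw [map_add, h1, LinearMap.mem_ker.1 hx, zero_add, add_sub_cancel_right]
        · have h1 : f (s m) = m := congr($hs m)
          change f (x + s m) = m
          rw [map_add, h1, LinearMap.mem_ker.1 hx, zero_add]⟩
  have hK : Module.Projective B (LinearMap.ker f) :=
    Module.Projective.of_split (e.symm.toLinearMap.comp (LinearMap.inl B _ _)) ((LinearMap.fst B _ _).comp e.toLinearMap) (by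
      ext x
      simp)
  have hKf : Module.Finite B (LinearMap.ker f) :=
    Module.Finite.of_surjective ((LinearMap.fst B _ _).comp e.toLinearMap)
      ((show Function.Surjective (LinearMap.fst B (LinearMap.ker f) M) from fun x => ⟨(x, 0), rfl⟩).comp e.surjective)
  have h0 : Module.rankAtStalk (R := B) (LinearMap.ker f) = 0 := by
    funext p
    have h1 := congrFun (Module.rankAtStalk_eq_of_equiv e) p
    rw [Module.rankAtStalk_prod] at h1
    have hnt : Nontrivial B := p.nontrivial
    rw [congrFun (Module.rankAtStalk_eq_finrank_of_free (R := B) (M := Fin a → B)) p] at h1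
    simp only [Pi.natCast_apply, Pi.add_apply, Module.finrank_fin_fun, hr p] at h1
    change Module.rankAtStalk (LinearMap.ker f) p = 0
    simpa using h1
  have h1 : Subsingleton (LinearMap.ker f) := Module.rankAtStalk_eq_zero_iff_subsingleton.1 h0
  refine Fintype.linearIndependent_iff.2 fun c hc i => ?_
  have h2 : (⟨c, hc⟩ : LinearMap.ker f) = 0 := Subsingleton.elim _ _
  exact congrFun (congrArg Subtype.val h2) i

end Span

section Nhd

variable {B M : Type*} [CommRing B] [AddCommGroup M] [Module B M] [Module.Finite B M] [Module.Projective B M] {a : ℕ}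

theorem exists_gen_nhd (p : PrimeSpectrum B) (hr : Module.rankAtStalk (R := B) M p = a) :
    ∃ (x : Fin a → M) (r : B), r ∉ p.asIdeal ∧ ∀ m : M, r • m ∈ Submodule.span B (Set.range x) := by
  let S := p.asIdeal.primeCompl
  let Bp := Localization.AtPrime p.asIdeal
  let ι : M →ₗ[B] LocalizedModule S M := LocalizedModule.mkLinearMap S M
  have hfree : Module.Free Bp (LocalizedModule S M) := Module.free_of_flat_of_isLocalRing
  let b : Module.Basis (Fin a) Bp (LocalizedModule S M) := Module.finBasisOfFinrankEq Bp _ hr
  have h1 : ∀ i, ∃ (m : M) (s : S), s.1 • b i = ι m := fun i => by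
    obtain ⟨⟨m, s⟩, h⟩ := IsLocalizedModule.surj S ι (b i)
    exact ⟨m, s, h⟩
  choose x s hs using h1
  let N : Submodule B M := Submodule.span B (Set.range x)
  have hN : p ∉ Module.support B (M ⧸ N) := by
    rw [Module.notMem_support_iff]
    let F : LocalizedModule S M →ₗ[Bp] LocalizedModule S (M ⧸ N) := LocalizedModule.map S N.mkQ
    have hF : Function.Surjective F := by
      intro y
      obtain ⟨⟨m, t⟩, rfl⟩ := IsLocalizedModule.mk'_surjective S (LocalizedModule.mkLinearMap S (M ⧸ N)) y
      obtain ⟨m, rfl⟩ := N.mkQ_surjective m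
      refine ⟨IsLocalizedModule.mk' (LocalizedModule.mkLinearMap S M) m t, ?_⟩
      exact IsLocalizedModule.map_mk' S (LocalizedModule.mkLinearMap S M) (LocalizedModule.mkLinearMap S (M ⧸ N)) N.mkQ m t
    have hF0 : F = 0 := by
      refine b.ext fun i => ?_
      have h2 : F (ι (x i)) = 0 := by
        have h3 : F (ι (x i)) = LocalizedModule.mkLinearMap S (M ⧸ N) (N.mkQ (x i)) :=
          IsLocalizedModule.map_apply S (LocalizedModule.mkLinearMap S M) (LocalizedModule.mkLinearMap S (M ⧸ N)) N.mkQ (x i)
        rw [h3, show N.mkQ (x i) = 0 from (Submodule.Quotient.mk_eq_zero _).2 (Submodule.subset_span ⟨i, rfl⟩), map_zero]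
      rw [← hs i] at h2
      have h4 : F ((s i).1 • b i) = algebraMap B Bp (s i).1 • F (b i) := by
        rw [← algebraMap_smul Bp (s i).1 (b i), map_smul]
      rw [h4] at h2
      have h5 : IsUnit (algebraMap B Bp (s i).1) := IsLocalization.map_units Bp (s i)
      rw [LinearMap.zero_apply]
      exact (h5.smul_eq_zero).1 h2
    refine ⟨fun y z => ?_⟩
    obtain ⟨y, rfl⟩ := hF y
    obtain ⟨z, rfl⟩ := hF z
    rw [hF0]
    rfl
  rw [Module.mem_support_iff_of_finite, SetLike.not_le_iff_exists] at hN
  obtain ⟨r, hr1, hr2⟩ := hN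
  refine ⟨x, r, hr2, fun m => ?_⟩
  have h3 := Module.mem_annihilator.1 hr1 (N.mkQ m)
  rw [← map_smul] at h3
  exact (Submodule.Quotient.mk_eq_zero _).1 h3

end Nhd

section BC

variable {A B : Type u} [CommRing A] [CommRing B] {φ : A →+* B} {M N : Type u}
  [AddCommGroup M] [Module A M] [AddCommGroup N] [Module B N] {θ : M →+ N} [Module.Finite A M] [Module.Projective A M]

/-- a base change of a finite projective module of rank `a` -/
theorem proj_of_isBC (h : IsBC φ θ) {a : ℕ} (hr : ∀ p : PrimeSpectrum A, Module.rankAtStalk (R := A) M p = a) :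
    Module.Finite B N ∧ Module.Projective B N ∧ ∀ p : PrimeSpectrum B, Module.rankAtStalk (R := B) N p = a := by
  algebraize [φ]
  let _ : Module A N := Module.compHom N φ
  have : IsScalarTower A B N := ⟨fun a b n => by
    rw [Algebra.smul_def, mul_smul]
    rfl⟩
  let f : M →ₗ[A] N := { θ with map_smul' := h.map_smul }
  have hf : IsBaseChange B f := (isBC_iff_isBaseChange f).1 h
  have h1 : Module.Finite B N := Module.Finite.equiv hf.equiv
  have h2 : Module.Projective B N := Module.Projective.of_equiv hf.equiv
  refine ⟨h1, h2, fun p => ?_⟩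
  rw [Module.rankAtStalk_isBaseChange hf p]
  exact hr _

theorem exists_basis_of_gen (h : IsBC φ θ) {a : ℕ} (hr : ∀ p : PrimeSpectrum A, Module.rankAtStalk (R := A) M p = a)
    (x : Fin a → M) {r : A} (hu : IsUnit (φ r)) (hx : ∀ m : M, r • m ∈ Submodule.span A (Set.range x)) :
    ∃ b : Module.Basis (Fin a) B N, ∀ i, b i = θ (x i) := by
  obtain ⟨h1, h2, h3⟩ := proj_of_isBC h hr
  have h4 : Submodule.span B (Set.range fun i => θ (x i)) = ⊤ := by
    rw [eq_top_iff, ← Fga.QTPull.span_range_of_isBC h, Submodule.span_le]
    rintro _ ⟨m, rfl⟩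
    have h5 : θ (r • m) ∈ Submodule.span B (Set.range fun i => θ (x i)) := by
      have key : ∀ y ∈ Submodule.span A (Set.range x), θ y ∈ Submodule.span B (Set.range fun i => θ (x i)) := by
        intro y hy
        induction hy using Submodule.span_induction with
        | mem y hy =>
          obtain ⟨i, rfl⟩ := hy
          exact Submodule.subset_span ⟨i, rfl⟩
        | zero => rw [map_zero]; exact zero_mem _
        | add y z _ _ hy hz => rw [map_add]; exact add_mem hy hz
        | smul c y _ hy => rw [h.map_smul]; exact Submodule.smul_mem _ _ hy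
      exact key _ (hx m)
    rw [h.map_smul] at h5
    have h6 := Submodule.smul_mem _ (hu.unit⁻¹ : Bˣ).1 h5
    rw [smul_smul] at h6
    have h7 : (hu.unit⁻¹ : Bˣ).1 * φ r = 1 := hu.val_inv_mul
    rw [h7, one_smul] at h6
    exact h6
  have h5 := linearIndependent_of_span h3 (fun i => θ (x i)) h4
  exact ⟨Module.Basis.mk h5 h4.ge, fun i => Module.Basis.mk_apply _ _ _⟩

end BC

end K679.FrmAlg
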