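import Groth.Agent.Coherent.K679.Coh
import Groth.Agent.Coherent.K679.FrmAlg

/-!
# Frames of families: bases of twisted sections from the fibres, local existence of frames

* `exists_point_data`, `isBC_fam`: the family as an input of `K679.CohBC`;
* `isBas_of_fibres` (FRM2), `exists_frame` (FRM1).
-/

set_option autoImplicit false
universe u

open CategoryTheory CategoryTheory.Limits AlgebraicGeometry Opposite MvPolynomial

namespace K679.Frm

open Groth.Agent Fga.QTDefs Fga.QTPull Fga.QT8 Fga.QT4b Fga.QT6a Fga.QT6c K585.KronK K585.Defs CohBC TwBC ClosedAlg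
  FrmAlg CohqA.BaseChangeMod

variable {n : ℕ} {X S : Scheme.{u}} (f : X ⟶ S) {k : Type u} [Field k] [IsAlgClosed k]
  (sS : S ⟶ Spec (CommRingCat.of k)) (g₀ : X ⟶ PZ n) [IsClosedImmersion (toPS g₀ f)]
  {P : Polynomial ℚ} {N : ℕ} {B : Type u} [CommRing B] (s : Spec (CommRingCat.of B) ⟶ S)

omit [IsAlgClosed k] in
theorem exists_point_data [LocallyOfFiniteType (s ≫ sS)] (E : (PicF.XT f (Over.mk s)).Modules)
    (hE : RgFam f sS g₀ P N (Over.mk s) E) :
    ∃ c : k →+* B, c.FiniteType ∧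
      (∀ ρ : B →+* k, ρ.comp c = RingHom.id k → Spec.map (CommRingCat.ofHom ρ) ≫ s ≫ sS = 𝟙 (Spec (CommRingCat.of k))) ∧
      (∀ ρ : B →+* k, ρ.comp c = RingHom.id k → FibRg (gT f g₀ (Over.mk s)) (prB f s) E P N ρ) := by
  obtain ⟨c, hc⟩ := Spec.map_surjective (s ≫ sS)
  have hcf : c.hom.FiniteType := by
    have h1 : LocallyOfFiniteType (Spec.map c) := by rw [hc]; infer_instance
    exact (HasRingHomProperty.Spec_iff (P := @LocallyOfFiniteType)).1 h1
  have ht : ∀ ρ : B →+* k, ρ.comp c.hom = RingHom.id k →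
      Spec.map (CommRingCat.ofHom ρ) ≫ s ≫ sS = 𝟙 (Spec (CommRingCat.of k)) := by
    intro ρ hρ
    rw [← hc, ← Spec.map_comp, ← Spec.map_id]
    congr 1
    ext x
    exact congr($hρ x)
  refine ⟨c.hom, hcf, ht, fun ρ hρ => ?_⟩
  let t : Spec (CommRingCat.of k) ⟶ (Over.mk s).left := Spec.map (CommRingCat.ofHom ρ)
  obtain ⟨h1, h2⟩ := hE.rg t (ht ρ hρ)
  exact ⟨PicF.XT f (Over.mk (t ≫ s)), PicF.XTmap f (Over.homMk t rfl : Over.mk (t ≫ s) ⟶ Over.mk s),
    gT f g₀ (Over.mk (t ≫ s)), prB f (t ≫ s), XTmap_gT f g₀ _, Picfga.HilbPull.isPullback_XTmap f _,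
    isClosedImmersion_toPA f g₀ (t ≫ s), h1, h2⟩

theorem isBC_fam [LocallyOfFiniteType (s ≫ sS)] (E : (PicF.XT f (Over.mk s)).Modules)
    (hE : RgFam f sS g₀ P N (Over.mk s) E) {B' : Type u} [CommRing B'] {s' : Spec (CommRingCat.of B') ⟶ S}
    (h : Over.mk s' ⟶ Over.mk s) {φ : B →+* B'} (hφ : h.left = Spec.map (CommRingCat.ofHom φ)) {m : ℕ} (hm : N ≤ m) :
    IsBC φ (pbTw (XTmap_gT f g₀ h) E (prB f s) (prB f s') m) := by
  obtain ⟨c, hcf, -, H⟩ := exists_point_data f sS g₀ s E hE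
  have HP : IsPullback (PicF.XTmap f h) (prB f s') (prB f s) (Spec.map (CommRingCat.ofHom φ)) := by
    have h1 := Picfga.HilbPull.isPullback_XTmap f h
    rw [hφ] at h1
    exact h1
  exact CohBC.isBC hcf hE.coh hE.flat H (XTmap_gT f g₀ h) HP m hm

theorem isBas_of_basis {R M : Type*} [CommRing R] [AddCommGroup M] [Module R M] {ι : Type*} {T : Submodule R M}
    (b : Module.Basis ι R T) : IsBas T (fun i => (b i).1) := by
  refine ⟨b.linearIndependent.map' T.subtype (Submodule.ker_subtype _), ?_⟩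
  have h1 : (Set.range fun i => (b i).1) = T.subtype '' Set.range b := by
    rw [← Set.range_comp]
    rfl
  rw [h1, ← Submodule.map_span, b.span_eq, Submodule.map_top, Submodule.range_subtype]

/-- **NODE FRM2.** -/
theorem isBas_of_fibres [LocallyOfFiniteType (s ≫ sS)] (E : (PicF.XT f (Over.mk s)).Modules)
    (hE : RgFam f sS g₀ P N (Over.mk s) E) {a : ℕ} (ha : (a : ℚ) = P.eval (N : ℚ))
    (v : Fin a → Sec (gT f g₀ (Over.mk s)) (prB f s) E) (hv : ∀ j, v j ∈ TwSec (gT f g₀ (Over.mk s)) (prB f s) E N)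
    (h : ∀ t : Spec (CommRingCat.of k) ⟶ Spec (CommRingCat.of B), t ≫ s ≫ sS = 𝟙 (Spec (CommRingCat.of k)) →
      LinearIndependent k (fun j => pbS f g₀ (Over.homMk t rfl : Over.mk (t ≫ s) ⟶ Over.mk s) E (v j))) :
    IsBas (TwSec (gT f g₀ (Over.mk s)) (prB f s) E N) v := by
  have hco := Coh.coh' f sS g₀ s E hE
  have hfin := hco.fin N le_rfl
  have hproj := hco.proj N le_rfl
  have hrk : ∀ p : PrimeSpectrum B,
      Module.rankAtStalk (R := B) (TwSec (gT f g₀ (Over.mk s)) (prB f s) E N) p = a := fun p => by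
    have h1 := hco.rank N le_rfl p
    rw [← ha] at h1
    exact_mod_cast h1
  obtain ⟨c, hcf, hpt, H⟩ := exists_point_data f sS g₀ s E hE
  let v' : Fin a → TwSec (gT f g₀ (Over.mk s)) (prB f s) E N := fun j => ⟨v j, hv j⟩
  have hspan : Submodule.span B (Set.range v') = ⊤ := by
    refine eq_top_of_maximal _ fun 𝔪 h𝔪 => ?_
    obtain ⟨ρ, hρ, hker⟩ := exists_point c hcf 𝔪
    have hρs : Function.Surjective ρ := fun x => ⟨c x, congr($hρ x)⟩
    let t : Spec (CommRingCat.of k) ⟶ Spec (CommRingCat.of B) := Spec.map (CommRingCat.ofHom ρ)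
    have hbc := isBC_fam f sS g₀ s E hE (Over.homMk t rfl : Over.mk (t ≫ s) ⟶ Over.mk s) (φ := ρ) rfl (m := N) le_rfl
    rw [← hker]
    refine sup_eq_top_of_isBC hρs hbc _ ?_
    let pt : TwSec (gT f g₀ (Over.mk s)) (prB f s) E N →+ _ :=
      pbTw (XTmap_gT f g₀ (Over.homMk t rfl : Over.mk (t ≫ s) ⟶ Over.mk s)) E (prB f s) (prB f (t ≫ s)) N
    have hli : LinearIndependent k (fun j => pt (v' j)) :=
      LinearIndependent.of_comp (Submodule.subtype _) (h t (hpt ρ hρ))
    have hN0 : Nontrivial B := by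
      refine ⟨0, 1, fun h01 => ?_⟩
      have := congrArg ρ h01
      rw [map_zero, map_one] at this
      exact zero_ne_one this
    let p : PrimeSpectrum B := ⟨𝔪, h𝔪.isPrime⟩
    have hfr := rank_of_isBC hbc p (Or.inl (by rw [hker]))
    rw [hrk p] at hfr
    obtain ⟨hfk, -, -⟩ := proj_of_isBC hbc hrk
    have hsp := hli.span_eq_top_of_card_eq_finrank' (by rw [Fintype.card_fin]; exact hfr)
    rw [eq_top_iff, ← hsp]
    refine Submodule.span_mono ?_
    rintro _ ⟨j, rfl⟩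
    exact ⟨v' j, Submodule.subset_span ⟨j, rfl⟩, rfl⟩
  have hli' := linearIndependent_of_span hrk v' hspan
  have h1 := isBas_of_basis (Module.Basis.mk hli' hspan.ge)
  simp only [Module.Basis.mk_apply] at h1
  exact h1

/-- **NODE FRM1.** Frames exist locally on the base. -/
theorem exists_frame [LocallyOfFiniteType (s ≫ sS)] (E : (PicF.XT f (Over.mk s)).Modules)
    (hE : RgFam f sS g₀ P N (Over.mk s) E) {e a b : ℕ} (ha : (a : ℚ) = P.eval (N : ℚ))
    (hb : (b : ℚ) = P.eval ((N + e : ℕ) : ℚ)) (p : PrimeSpectrum B) :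
    ∃ r : B, r ∉ p.asIdeal ∧
      let s' : Spec (CommRingCat.of (Localization.Away r)) ⟶ S :=
        Spec.map (CommRingCat.ofHom (algebraMap B (Localization.Away r))) ≫ s
      let h : Over.mk s' ⟶ Over.mk s := Over.homMk (Spec.map (CommRingCat.ofHom (algebraMap B (Localization.Away r)))) rfl
      ∃ (v : Fin a → Sec (gT f g₀ (Over.mk s')) (prB f s') ((Scheme.Modules.pullback (PicF.XTmap f h)).obj E))
        (w : Fin b → Sec (gT f g₀ (Over.mk s')) (prB f s') ((Scheme.Modules.pullback (PicF.XTmap f h)).obj E))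
        (α : Kr a b (hn n e) (Localization.Away r)),
        IsFrame (gT f g₀ (Over.mk s')) (prB f s') ((Scheme.Modules.pullback (PicF.XTmap f h)).obj E) N e v w α := by
  have hco := Coh.coh' f sS g₀ s E hE
  have hrk : ∀ (m : ℕ) (hm : N ≤ m) (c : ℕ) (hc : (c : ℚ) = P.eval (m : ℚ)) (p : PrimeSpectrum B),
      Module.rankAtStalk (R := B) (TwSec (gT f g₀ (Over.mk s)) (prB f s) E m) p = c := fun m hm c hc p => by
    have h1 := hco.rank m hm p
    rw [← hc] at h1
    exact_mod_cast h1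
  have hf1 := hco.fin N le_rfl
  have hp1 := hco.proj N le_rfl
  have hf2 := hco.fin (N + e) (Nat.le_add_right N e)
  have hp2 := hco.proj (N + e) (Nat.le_add_right N e)
  have hr1 := hrk N le_rfl a ha
  have hr2 := hrk (N + e) (Nat.le_add_right N e) b hb
  obtain ⟨x, r₁, hr₁, hx⟩ := exists_gen_nhd p (hr1 p)
  obtain ⟨y, r₂, hr₂, hy⟩ := exists_gen_nhd p (hr2 p)
  refine ⟨r₁ * r₂, fun hmem => (p.isPrime.mem_or_mem hmem).elim hr₁ hr₂, ?_⟩
  intro s' h
  have hu : IsUnit (algebraMap B (Localization.Away (r₁ * r₂)) (r₁ * r₂)) :=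
    IsLocalization.Away.algebraMap_isUnit (r₁ * r₂)
  have hbc1 := isBC_fam f sS g₀ s E hE h (φ := algebraMap B (Localization.Away (r₁ * r₂))) rfl (m := N) le_rfl
  have hbc2 := isBC_fam f sS g₀ s E hE h (φ := algebraMap B (Localization.Away (r₁ * r₂))) rfl (m := N + e)
    (Nat.le_add_right N e)
  obtain ⟨v, -⟩ := exists_basis_of_gen hbc1 hr1 x hu (fun m => by
    rw [mul_comm, mul_smul]
    exact Submodule.smul_mem _ _ (hx m))
  obtain ⟨w, -⟩ := exists_basis_of_gen hbc2 hr2 y hu (fun m => by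
    rw [mul_smul]
    exact Submodule.smul_mem _ _ (hy m))
  have hmem : ∀ (l : Fin (hn n e)) (j : Fin a), mulL (gT f g₀ (Over.mk s')) (prB f s') _
      (monomial (mu n e l).1 1) (v j).1 ∈ TwSec (gT f g₀ (Over.mk s')) (prB f s')
        ((Scheme.Modules.pullback (PicF.XTmap f h)).obj E) (N + e) := fun l j =>
    mulL_mem (isHomogeneous_monomial 1 (mu n e l).2) (v j).2
  refine ⟨fun i => (v i).1, fun i => (w i).1, fun l => Matrix.of fun i j => w.repr ⟨_, hmem l j⟩ i,
    isBas_of_basis v, isBas_of_basis w, fun l j => ?_⟩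
  have h1 := congrArg Subtype.val (w.sum_repr ⟨_, hmem l j⟩)
  rw [AddSubmonoidClass.coe_finsetSum] at h1
  exact h1.symm

end K679.Frm
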