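import Groth.Agent.Coherent.K679.Main
import Mathlib.Analysis.Complex.Polynomial.Basic
import Mathlib.RingTheory.Flat.EquationalCriterion

/-!
# Simpson moduli, node COH: cohomology and base change for families with regular fibres
-/

set_option autoImplicit false
universe u

open CategoryTheory CategoryTheory.Limits AlgebraicGeometry Opposite

namespace K679.Coh

open Groth.Agent Fga.QTDefs Fga.QTPull Fga.QT8 Fga.QT4b Fga.QT6a Fga.QT6c K585.Defs CohBC

variable {n : ℕ} {X S : Scheme.{u}} (f : X ⟶ S) {k : Type u} [Field k] [IsAlgClosed k]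
  (sS : S ⟶ Spec (CommRingCat.of k)) (g₀ : X ⟶ PZ n) [IsClosedImmersion (toPS g₀ f)]

/-- NODE COH, over an algebraically closed field. -/
theorem coh' {P : Polynomial ℚ} {N : ℕ} {B : Type u} [CommRing B] (s : Spec (CommRingCat.of B) ⟶ S)
    [LocallyOfFiniteType (s ≫ sS)] (E : (PicF.XT f (Over.mk s)).Modules) (hE : RgFam f sS g₀ P N (Over.mk s) E) :
    CohOut f g₀ P N s E := by
  obtain ⟨c, hc⟩ := Spec.map_surjective (s ≫ sS)
  have hcf : c.hom.FiniteType := by
    have h1 : LocallyOfFiniteType (Spec.map c) := by rw [hc]; infer_instance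
    exact (HasRingHomProperty.Spec_iff (P := @LocallyOfFiniteType)).1 h1
  have H : ∀ ρ : B →+* k, ρ.comp c.hom = RingHom.id k →
      FibRg (gT f g₀ (Over.mk s)) (prB f s) E P N ρ := by
    intro ρ hρ
    let t : Spec (CommRingCat.of k) ⟶ (Over.mk s).left := Spec.map (CommRingCat.ofHom ρ)
    have ht : t ≫ (Over.mk s).hom ≫ sS = 𝟙 (Spec (CommRingCat.of k)) := by
      change Spec.map (CommRingCat.ofHom ρ) ≫ s ≫ sS = _
      rw [← hc, ← Spec.map_comp, ← Spec.map_id]
      congr 1
      ext x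
      exact congr($hρ x)
    obtain ⟨h1, h2⟩ := hE.rg t ht
    exact ⟨PicF.XT f (Over.mk (t ≫ s)), PicF.XTmap f (Over.homMk t rfl : Over.mk (t ≫ s) ⟶ Over.mk s),
      gT f g₀ (Over.mk (t ≫ s)), prB f (t ≫ s), XTmap_gT f g₀ _, Picfga.HilbPull.isPullback_XTmap f _,
      isClosedImmersion_toPA f g₀ (t ≫ s), h1, h2⟩
  have hN : IsNoetherianRing B := isNoeth hcf
  have hfin := fun m => fin (g := gT f g₀ (Over.mk s)) (q := prB f s) hcf hE.coh m
  refine ⟨fun m _ => hfin m, fun m hm => ?_, fun m hm p => rank hcf hE.coh hE.flat H m hm p,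
    fun i => gen hcf hE.coh hE.flat H i, fun m hm => mul hcf hE.coh hE.flat H m hm, ?_⟩
  · have h1 := hfin m
    have h2 := flat hcf hE.coh hE.flat H m hm
    have h3 : Module.FinitePresentation B (TwSec (gT f g₀ (Over.mk s)) (prB f s) E m) :=
      Module.finitePresentation_of_finite B _
    exact Module.Flat.projective_of_finitePresentation
  · intro m hm B' _ s' h r v hv
    obtain ⟨φ, hφ⟩ := Spec.map_surjective h.left
    have HP : IsPullback (PicF.XTmap f h) (prB f s') (prB f s) (Spec.map (CommRingCat.ofHom φ.hom)) := by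
      have h1 := Picfga.HilbPull.isPullback_XTmap f h
      rw [← hφ] at h1
      exact h1
    exact isBas hcf hE.coh hE.flat H (XTmap_gT f g₀ h) HP m hm hv

end K679.Coh

namespace K679.Coh

open Groth.Agent Fga.QTDefs Fga.QT6a K585.Defs

variable {n : ℕ} {X S : Scheme.{0}} (f : X ⟶ S) (sS : S ⟶ Spec (CommRingCat.of ℂ)) (g₀ : X ⟶ PZ n)
  [IsClosedImmersion (toPS g₀ f)]

/-- **NODE COH.** -/
theorem coh {P : Polynomial ℚ} {N : ℕ} {B : Type} [CommRing B] (s : Spec (CommRingCat.of B) ⟶ S)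
    [LocallyOfFiniteType (s ≫ sS)] (E : (PicF.XT f (Over.mk s)).Modules) (hE : RgFam f sS g₀ P N (Over.mk s) E) :
    CohOut f g₀ P N s E := coh' f sS g₀ s E hE

end K679.Coh
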