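import Groth.Agent.Ega3B.AcycNbhd

/-!
# Acyclicity from the closed fibres

`iX : X ⟶ S` proper, `S` affine Noetherian, `F` coherent and flat over `S`. If for every maximal ideal of `Γ(S, ⊤)`
the fibre of `F` at some field valued point over it has no higher cohomology then `F` has no higher cohomology.
-/

set_option autoImplicit false
universe u

open CategoryTheory CategoryTheory.Limits AlgebraicGeometry Opposite TopologicalSpace TensorProduct

namespace K679.AcycClosed

open Groth.Agent Groth.Agent.Ega3B Groth.Agent.Ega3B.AcycNbhd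
open CubeData CombRes Cube CechBC CechH0 AcyclicAlg AcycNbhdAlg AcyclicBC VarietyB.FlatH0 VarietyB.BCAlg
open Groth.Agent.Fdesc

attribute [local instance 3000] LocExact.hasSheafify

theorem acyclic_of_maximal {X S : Scheme.{u}} {iX : X ⟶ S} [IsAffine S] [IsLocallyNoetherian S] [IsProper iX]
    (F : X.Modules) (hF : Coh.IsCoh F) (hfl : FlatMod.IsFlatOver iX F)
    (h : ∀ 𝔪 : Ideal Γ(S, ⊤), 𝔪.IsMaximal → ∃ (Z XZ : Scheme.{u}) (t : Z ⟶ S) (g : XZ ⟶ X) (πZ : XZ ⟶ Z),
      IsPullback g πZ iX t ∧ IsAffine Z ∧ IsField Γ(Z, ⊤) ∧ RingHom.ker t.appTop.hom = 𝔪 ∧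
        ∀ p, Subsingleton (Coh.HH XZ ((Scheme.Modules.pullback g).obj F) (p + 1))) :
    ∀ p, Subsingleton (Coh.HH X F (p + 1)) := by
  have h1 : CompactSpace X := QuasiCompact.compactSpace_of_compactSpace iX
  have h2 : X.IsSeparated := by
    have : IsSeparated (terminal.from X) := by
      have : terminal.from X = iX ≫ terminal.from S := terminal.hom_ext _ _
      rw [this]
      infer_instance
    exact ⟨this⟩
  have hN := isNoetherianRing S
  obtain ⟨n, U, hcov, hU⟩ := exists_cover X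
  let i1 := fun n => modC iX F U n
  let I : Ideal Γ(S, ⊤) :=
    { carrier := {a | ∀ (p : ℕ) (x), d iX F U (p + 1) x = 0 → ∃ y, d iX F U p y = a • x}
      add_mem' := by
        intro a b ha hb p x hx
        obtain ⟨y, hy⟩ := ha p x hx
        obtain ⟨z, hz⟩ := hb p x hx
        exact ⟨y + z, by rw [map_add, hy, hz, add_smul]⟩
      zero_mem' := fun p x _ => ⟨0, by rw [map_zero, zero_smul]⟩
      smul_mem' := by
        intro c a ha p x hx
        obtain ⟨y, hy⟩ := ha p x hx
        exact ⟨c • y, by rw [map_smul, hy, smul_smul]; rfl⟩ }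
  have hI : I = ⊤ := by
    by_contra hne
    obtain ⟨𝔪, h𝔪, hle⟩ := Ideal.exists_le_maximal I hne
    obtain ⟨Z, XZ, t, g, πZ, H, hZ, hZf, hker, hK⟩ := h 𝔪 h𝔪
    let i0 := algOver t (US := ⊤) (UT := ⊤) le_top
    obtain ⟨a, ha, hk⟩ := AcycNbhdAlg.exists_kill' (d iX F U)
      (fun n x => (cech (X := X.toPresheafedSpace.carrier) U).δ_δ n x) (K := Γ(Z, ⊤)) hZf
      (fun n => flat_C U F hF.1 hfl hU n) (Fintype.card (Fin n))
      (fun n hn => subsingleton_C F U n hn)
      (fun n => finite_coho iX F hF U hcov hU n)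
      (fun n => (exact_iff H F hF.1 U hcov hU n).mpr (hK n))
    have e1 : t.appLE ⊤ ⊤ le_top = t.appTop := Scheme.Hom.appLE_eq_app t (U := ⊤)
    have ha' : t.appTop a ≠ 0 := by
      rw [← e1]
      exact ha
    have h3 : a ∈ 𝔪 := hle (show a ∈ I from hk)
    rw [← hker] at h3
    exact ha' h3
  intro p
  refine subsingleton_of_exact F U hF.1 hcov hU p fun x hx => ?_
  have h4 : (1 : Γ(S, ⊤)) ∈ I := by rw [hI]; trivial
  obtain ⟨y, hy⟩ := h4 p x hx
  exact ⟨y, hy.trans (one_smul _ _)⟩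

end K679.AcycClosed
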