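import Groth.Agent.Coherent.K679.TwBC
import Groth.Agent.Coherent.K679.AcycClosed
import Groth.Agent.Coherent.K679.ClosedAlg
import Groth.Agent.Ega3B.FlatTensInv
import Groth.Agent.Ega3B.DevQC
import Groth.Agent.Ega3B.ProjProper
import Groth.Agent.Fga.TwistCoh

/-!
# Cohomology and base change for twisted sections

`Y` closed in `P^n_B`, `B` of finite type over an algebraically closed field `k`, `E` coherent and flat over `B`, with
regular fibres at the `k`-points of `Spec B`.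
-/

set_option autoImplicit false
universe u

open CategoryTheory CategoryTheory.Limits AlgebraicGeometry Opposite

namespace K679.CohBC

open Groth.Agent Fga.QTDefs Fga.QTPull Fga.QT8 Fga.QT4b K277.Frames K277.TwSecIso K277.FibChi CohqA.PullbackQCoh
  CohqA.BaseChangeMod K585.Defs TwBC ClosedAlg

section twg

variable {n : ℕ} {Y Y' : Scheme.{u}} {g : Y ⟶ PZ n} {g' : Y' ⟶ PZ n} {h : Y' ⟶ Y} (hg : h ≫ g = g')

/-- `O(m)` -/
noncomputable abbrev Om (g : Y ⟶ PZ n) (m : ℤ) : Y.Modules :=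
  (Scheme.Modules.pullback g).obj (Twist.twistProjSpace n (ULift.{u} ℤ) m)

lemma isInv (g : Y ⟶ PZ n) (m : ℤ) : PicF.IsInvertible (Om g m) :=
  Fdesc.LocGen.isInvertible_pullback _ (FormalB.TwistGen.isInvertible_twistProjSpace n _ m)

/-- The pull back of `E(m)`. -/
noncomputable def twgPull (E : Y.Modules) (m : ℤ) : (Scheme.Modules.pullback h).obj (twg g E m) ≅
    twg g' ((Scheme.Modules.pullback h).obj E) m :=
  pbT h E (isInv g m) ≪≫ Ega2.Tens.mapTIso (Iso.refl _)
    ((Scheme.Modules.pullbackComp h g).app _ ≪≫ (Scheme.Modules.pullbackCongr hg).app _)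

lemma isCoh_twg {E : Y.Modules} (hE : Coh.IsCoh E) (m : ℤ) : Coh.IsCoh (twg g E m) :=
  Fga.TwistCoh.isCoh_tensor hE (isInv g m)

end twg

/-- The fibre of `E` at a point of `Spec B` is regular with Hilbert polynomial `P`. -/
def FibRg {n : ℕ} {Y : Scheme.{u}} (g : Y ⟶ PZ n) {B : Type u} [CommRing B] (q : Y ⟶ Spec (CommRingCat.of B))
    (E : Y.Modules) (P : Polynomial ℚ) (N : ℕ) {k : Type u} [Field k] (ρ : B →+* k) : Prop :=
  ∃ (Z : Scheme.{u}) (h : Z ⟶ Y) (g' : Z ⟶ PZ n) (p : Z ⟶ Spec (CommRingCat.of k)), h ≫ g = g' ∧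
    IsPullback h p q (Spec.map (CommRingCat.ofHom ρ)) ∧ IsClosedImmersion (toPA g' p) ∧
    letI : Z.Over (Spec (CommRingCat.of k)) := ⟨p⟩
    Rg k g' ((Scheme.Modules.pullback h).obj E) N ∧
      ∀ m : ℤ, (Curv2.euler k Z (twg g' ((Scheme.Modules.pullback h).obj E) m) : ℚ) = P.eval (m : ℚ)

section main

variable {n : ℕ} {Y : Scheme.{u}} {g : Y ⟶ PZ n} {B : Type u} [CommRing B] {k : Type u} [Field k] [IsAlgClosed k]
  {q : Y ⟶ Spec (CommRingCat.of B)} [IsClosedImmersion (toPA g q)] {c : k →+* B} (hc : c.FiniteType) {E : Y.Modules}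
  (hE : Coh.IsCoh E) (hfl : FlatMod.IsFlatOver q E) {P : Polynomial ℚ} {N : ℕ}
  (H : ∀ ρ : B →+* k, ρ.comp c = RingHom.id k → FibRg g q E P N ρ)

omit [IsAlgClosed k] in
include hc in
theorem isNoeth : IsNoetherianRing B := by
  algebraize [c]
  exact Algebra.FiniteType.isNoetherianRing k B

omit [IsAlgClosed k] [IsClosedImmersion (toPA g q)] in
theorem isProper_q {n : ℕ} {Y : Scheme.{u}} (g : Y ⟶ PZ n) {B : Type u} [CommRing B]
    (q : Y ⟶ Spec (CommRingCat.of B)) [IsClosedImmersion (toPA g q)] : IsProper q := by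
  have h : toPA g q ≫ CohB1.ProjSpaceOver.toBase n (Spec (CommRingCat.of B)) = q := pullback.lift_snd _ _ _
  rw [← h]
  have := Ega3B.ProjProper.isProper_toBase n (Spec (CommRingCat.of B))
  infer_instance

include hc hE hfl H

/-- No higher cohomology. -/
theorem vanish (m : ℕ) (hm : N ≤ m) (p : ℕ) : Subsingleton (Coh.HH Y (twg g E m) (p + 1)) := by
  have := isNoeth hc
  have : IsLocallyNoetherian (Spec (CommRingCat.of B)) := inferInstance
  have := isProper_q g q
  refine AcycClosed.acyclic_of_maximal (iX := q) (twg g E m) (isCoh_twg hE m)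
    (Ega3B.FlatTensInv.isFlatOver_tensor q (isInv g m) hfl) (fun 𝔪' h𝔪' => ?_) p
  let σ : B →+* Γ(Spec (CommRingCat.of B), ⊤) := (Scheme.ΓSpecIso (CommRingCat.of B)).inv.hom
  have hσ : Function.Bijective σ := (Scheme.ΓSpecIso (CommRingCat.of B)).symm.commRingCatIsoToRingEquiv.bijective
  have h𝔪 : (𝔪'.comap σ).IsMaximal := Ideal.comap_isMaximal_of_surjective σ hσ.2
  obtain ⟨ρ, hρ, hker⟩ := exists_point c hc (𝔪'.comap σ)
  obtain ⟨Z, h, g', p, hg, HP, hcl, hR, hχ⟩ := H ρ hρ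
  refine ⟨Spec (CommRingCat.of k), Z, Spec.map (CommRingCat.ofHom ρ), h, p, HP, inferInstance,
    Ega3B.AcycNbhd.isField_spec k, ?_, fun j => ?_⟩
  · ext a
    obtain ⟨b, rfl⟩ := hσ.2 a
    rw [RingHom.mem_ker]
    have h1 : (Spec.map (CommRingCat.ofHom ρ)).appTop.hom (σ b) = (Scheme.ΓSpecIso (CommRingCat.of k)).inv.hom (ρ b) :=
      congr(($(Scheme.ΓSpecIso_inv_naturality (CommRingCat.ofHom ρ))).hom b).symm
    have hσ' : Function.Injective (Scheme.ΓSpecIso (CommRingCat.of k)).inv.hom :=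
      (Scheme.ΓSpecIso (CommRingCat.of k)).symm.commRingCatIsoToRingEquiv.injective
    rw [h1, map_eq_zero_iff _ hσ', ← RingHom.mem_ker, hker]
    rfl
  · let _ : Z.Over (Spec (CommRingCat.of k)) := ⟨p⟩
    have h2 := hR.van m (by exact_mod_cast hm) (j + 1) (by omega)
    exact Ega3B.AcycNbhd.subsingleton_HH_of_iso (twgPull hg E m).symm _ h2

/-- **Base change.** -/
theorem isBC {Y' : Scheme.{u}} {g' : Y' ⟶ PZ n} {h : Y' ⟶ Y} (hg : h ≫ g = g') {A' : Type u} [CommRing A']
    {q' : Y' ⟶ Spec (CommRingCat.of A')} {φ : B →+* A'} (HP : IsPullback h q' q (Spec.map (CommRingCat.ofHom φ)))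
    (m : ℕ) (hm : N ≤ m) : IsBC φ (pbTw hg E q q' m) := by
  have := isProper_q g q
  refine isBC_pbTw hg E (TwFr.of g (m : ℤ)) (isInv g m) HP ?_
  rw [K425.SecBC.sbc_iff_isBC]
  exact (Ega3B.AcyclicBC.acyclicBC HP (twg g E m) (isCoh_twg hE m).1
    (Ega3B.FlatTensInv.isFlatOver_tensor q (isInv g m) hfl) (vanish hc hE hfl H m hm)).2.1

omit hfl H [IsAlgClosed k] in
theorem fin (m : ℕ) : Module.Finite B (TwSec g q E m) := by
  have := isNoeth hc
  let _ : Y.Over (Spec (CommRingCat.of B)) := ⟨q⟩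
  have : IsProper (Y ↘ Spec (CommRingCat.of B)) := isProper_q g q
  have h1 : Module.Finite B (Coh.HH Y (CohB1.tensorMod E ((Scheme.Modules.pullback g).obj
      (Twist.twistProjSpace n (ULift.{u} ℤ) m))) 0) := S0002.result B Y (twg g E m) (isCoh_twg hE m) 0
  exact Module.Finite.equiv (hhEquiv E (TwFr.of g (m : ℤ)) : _ ≃ₗ[B] TwSec g (Y ↘ Spec (CommRingCat.of B)) E m)

theorem flat (m : ℕ) (hm : N ≤ m) : Module.Flat B (TwSec g q E m) := by
  have := isProper_q g q
  have h1 := (Ega3B.AcyclicBC.acyclicBC (IsPullback.id_horiz q) (twg g E m) (isCoh_twg hE m).1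
    (Ega3B.FlatTensInv.isFlatOver_tensor q (isInv g m) hfl) (vanish hc hE hfl H m hm)).2.2
  let M := Γ(twg g E m, ⊤)
  let σ : B →+* Γ(Spec (CommRingCat.of B), ⊤) := (Scheme.ΓSpecIso (CommRingCat.of B)).inv.hom
  have hσ : Function.Bijective σ := (Scheme.ΓSpecIso (CommRingCat.of B)).symm.commRingCatIsoToRingEquiv.bijective
  let i1 : Module Γ(Spec (CommRingCat.of B), ⊤) M := K425.SecBC.mS q (twg g E m)
  have h2 : Module.Flat Γ(Spec (CommRingCat.of B), ⊤) M := h1
  let i2 : Algebra B Γ(Spec (CommRingCat.of B), ⊤) := σ.toAlgebra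
  let i3 : Module B M := Module.compHom M σ
  have i4 : IsScalarTower B Γ(Spec (CommRingCat.of B), ⊤) M := ⟨fun a b x => by
    rw [Algebra.smul_def, mul_smul]
    rfl⟩
  have h3 : Module.Flat B Γ(Spec (CommRingCat.of B), ⊤) :=
    Module.Flat.of_linearEquiv (LinearEquiv.ofBijective (Algebra.linearMap B Γ(Spec (CommRingCat.of B), ⊤)) hσ).symm
  have h4 : Module.Flat B M := Module.Flat.trans B Γ(Spec (CommRingCat.of B), ⊤) M
  let e : M ≃ₗ[B] TwSec g q E m :=
    { secEquiv q E (TwFr.of g (m : ℤ)) with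
      map_smul' := fun b x => by
        have h5 : (b • x : M) = Fga.QTDefs.coeff q ⊤ b • x := by
          change (q.appLE ⊤ ⊤ le_top).hom (σ b) • x = _
          have h6 : (q.appLE ⊤ ⊤ le_top).hom (σ b) = Fga.QTDefs.coeff q ⊤ b := rfl
          rw [h6]
        rw [h5]
        exact secEquiv_smul q E (TwFr.of g (m : ℤ)) b x }
  exact Module.Flat.of_linearEquiv e.symm

theorem rank (m : ℕ) (hm : N ≤ m) (p : PrimeSpectrum B) :
    (Module.rankAtStalk (R := B) (TwSec g q E m) p : ℚ) = P.eval (m : ℚ) := by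
  obtain ⟨𝔪, h𝔪, hle⟩ := Ideal.exists_le_maximal p.asIdeal p.isPrime.ne_top
  obtain ⟨ρ, hρ, hker⟩ := exists_point c hc 𝔪
  obtain ⟨Z, h, g', p', hg, HP, hcl, hR, hχ⟩ := H ρ hρ
  have hbc := isBC hc hE hfl H hg HP m hm
  have h1 := fin (g := g) (q := q) hc hE m
  have h2 := flat hc hE hfl H m hm
  rw [rank_of_isBC hbc p (Or.inr (by rw [hker]; exact hle))]
  let _ : Z.Over (Spec (CommRingCat.of k)) := ⟨p'⟩
  have h3 : Module.finrank k (Coh.HH Z (twg g' ((Scheme.Modules.pullback h).obj E) m) 0) =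
      Module.finrank k (TwSec g' p' ((Scheme.Modules.pullback h).obj E) m) :=
    (hhEquiv ((Scheme.Modules.pullback h).obj E) (TwFr.of g' (m : ℤ)) : _ ≃ₗ[k] _).finrank_eq
  have h4 : Curv2.euler k Z (twg g' ((Scheme.Modules.pullback h).obj E) m) =
      Module.finrank k (TwSec g' p' ((Scheme.Modules.pullback h).obj E) m) := by
    rw [Curv2.euler, finsum_eq_single _ 0, pow_zero, one_mul, h3]
    intro i hi
    have := hR.van m (by exact_mod_cast hm) i (by omega)
    rw [Module.finrank_zero_of_subsingleton]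
    simp
  have h5 := hχ m
  rw [h4] at h5
  exact_mod_cast h5

omit hc hE hfl H [IsClosedImmersion (toPA g q)] [IsAlgClosed k] in
theorem mulL_mem {p : MvPolynomial (Fin (n + 1)) B} {e : ℕ} (hp : p.IsHomogeneous e) {d : ℕ} {v : Sec g q E}
    (hv : v ∈ TwSec g q E d) : mulL g q E p v ∈ TwSec g q E (d + e) := by
  intro i j
  rw [mulL_apply, mulL_apply, resM_smul, resM_smul, Fga.QT4.ev_homogeneous g q i j hp, hv i j, smul_smul, smul_smul]
  congr 1
  rw [pow_add]
  ring

/-- **Multiplication.** -/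
theorem mul (m : ℕ) (hm : N ≤ m) : TwSec g q E (m + 1) ≤
    ⨆ j, (TwSec g q E m).map (mulL g q E (MvPolynomial.X j)) := by
  let T : Submodule B (Sec g q E) := ⨆ j, (TwSec g q E m).map (mulL g q E (MvPolynomial.X j))
  let M' : Submodule B (TwSec g q E (m + 1)) := T.comap (TwSec g q E (m + 1)).subtype
  have h1 := fin (g := g) (q := q) hc hE (m + 1)
  have hM' : M' = ⊤ := by
    refine eq_top_of_maximal M' fun 𝔪 h𝔪 => ?_
    obtain ⟨ρ, hρ, hker⟩ := exists_point c hc 𝔪
    have hρs : Function.Surjective ρ := fun x => ⟨c x, congr($hρ x)⟩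
    obtain ⟨Z, h, g', p', hg, HP, hcl, hR, hχ⟩ := H ρ hρ
    let _ : Z.Over (Spec (CommRingCat.of k)) := ⟨p'⟩
    have hbc := isBC hc hE hfl H hg HP m hm
    have hbc' := isBC hc hE hfl H hg HP (m + 1) (by omega)
    rw [← hker]
    refine sup_eq_top_of_isBC hρs hbc' M' ?_
    set Q := Submodule.span k (pbTw hg E q p' (m + 1) '' (M' : Set (TwSec g q E (m + 1)))) with hQ
    have h2 : (⨆ j, (TwSec g' p' ((Scheme.Modules.pullback h).obj E) m).map
        (mulL g' p' ((Scheme.Modules.pullback h).obj E) (MvPolynomial.X j))) ≤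
        Q.map (TwSec g' p' ((Scheme.Modules.pullback h).obj E) (m + 1)).subtype := by
      refine iSup_le fun j => ?_
      rintro _ ⟨s, hs, rfl⟩
      obtain ⟨v, hv⟩ := surjective_of_isBC hρs hbc ⟨s, hs⟩
      have hv' : pbW hg q p' v.1 = s := congrArg Subtype.val hv
      have h3 : mulL g q E (MvPolynomial.X j) v.1 ∈ TwSec g q E (m + 1) :=
        mulL_mem (MvPolynomial.isHomogeneous_X B j) v.2
      refine ⟨pbTw hg E q p' (m + 1) ⟨_, h3⟩, Submodule.subset_span ⟨_, ?_, rfl⟩, ?_⟩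
      · exact Submodule.mem_iSup_of_mem j ⟨v.1, v.2, rfl⟩
      · change pbW hg q p' (mulL g q E (MvPolynomial.X j) v.1) = _
        rw [pbW_mulL hg HP.w, hv', MvPolynomial.map_X]
    rw [eq_top_iff]
    intro y _
    obtain ⟨z, hz, hzy⟩ := h2 (hR.mul m hm y.2)
    have : z = y := Subtype.ext hzy
    rwa [← this]
  intro x hx
  have h4 : (⟨x, hx⟩ : TwSec g q E (m + 1)) ∈ M' := by rw [hM']; trivial
  exact h4

/-- **Generation.** -/
theorem gen (i : Fin (n + 1)) :
    Submodule.span Γ(Y, V g i) (Set.range fun t : TwSec g q E N => t.1 i) = ⊤ := by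
  have haff : IsAffineOpen (V g i) := isAffineOpen_V g q i
  have h1 : Module.Finite Γ(Y, V g i) Γ(E, V g i) := Ega3B.DevQC.finite_sections hE haff
  refine eq_top_of_maximal _ fun 𝔫 h𝔫 => ?_
  have hc' : ((Fga.QTDefs.coeff q (V g i)).comp c).FiniteType := by
    refine RingHom.FiniteType.comp ?_ hc
    have h2 : Fga.QTDefs.coeff q (V g i) = (ev g q i).comp MvPolynomial.C := by
      ext b
      exact (ev_C g q i b).symm
    rw [h2]
    refine RingHom.FiniteType.comp (RingHom.FiniteType.of_surjective _ (ev_surjective g q i)) ?_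
    have h3 : Algebra.FiniteType B (MvPolynomial (Fin (n + 1)) B) := inferInstance
    exact RingHom.finiteType_algebraMap.2 h3
  obtain ⟨τ, hτ, hker⟩ := exists_point _ hc' 𝔫
  let ρ : B →+* k := τ.comp (Fga.QTDefs.coeff q (V g i))
  have hρ : ρ.comp c = RingHom.id k := by rw [← hτ]; rfl
  have hρs : Function.Surjective ρ := fun x => ⟨c x, congr($hρ x)⟩
  obtain ⟨Z, h, g', p', hg, HP, hcl, hR, hχ⟩ := H ρ hρ
  let _ : Z.Over (Spec (CommRingCat.of k)) := ⟨p'⟩
  let ψ := (h.appLE (V g i) (V g' i) (V_le hg i)).hom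
  have hpo := isPushout_coeff HP haff (V_pull hg i)
  have hψ : Function.Surjective ψ := by
    rw [← RingHom.range_eq_top]
    refine subring_eq_top_of_isPushout hpo _ (fun x => ?_) (fun x => ⟨x, rfl⟩)
    obtain ⟨b, rfl⟩ := hρs x
    exact ⟨Fga.QTDefs.coeff q (V g i) b, coeff_pull HP.w (V_le hg i) b⟩
  have hkerψ : RingHom.ker ψ ≤ 𝔫 := by
    intro x hx
    rw [← hker, RingHom.mem_ker]
    have w : CommRingCat.ofHom ρ ≫ CommRingCat.ofHom (RingHom.id k) =
        CommRingCat.ofHom (Fga.QTDefs.coeff q (V g i)) ≫ CommRingCat.ofHom τ := rfl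
    have h4 := congr(($(hpo.inr_desc (CommRingCat.ofHom (RingHom.id k)) (CommRingCat.ofHom τ) w)).hom x)
    have h5 : (hpo.desc (CommRingCat.ofHom (RingHom.id k)) (CommRingCat.ofHom τ) w).hom (ψ x) = τ x := h4
    rw [← h5, (RingHom.mem_ker.1 hx), map_zero]
  have hq : E.IsQuasicoherent := hE.1
  have hBCi : IsBC ψ (pbSec h E (V g i) (V g' i) (V_le hg i)).hom :=
    isBC_pbSec h E haff (isAffineOpen_V g' p' i) (V_le hg i)
  have hbc := isBC hc hE hfl H hg HP N le_rfl
  have hsp : Submodule.span Γ(Z, V g' i) ((pbSec h E (V g i) (V g' i) (V_le hg i)).hom ''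
      (Submodule.span Γ(Y, V g i) (Set.range fun t : TwSec g q E N => t.1 i) : Set Γ(E, V g i))) = ⊤ := by
    rw [eq_top_iff, ← hR.gen N le_rfl i, Submodule.span_le]
    rintro _ ⟨s, rfl⟩
    obtain ⟨v, hv⟩ := surjective_of_isBC hρs hbc s
    refine Submodule.subset_span ⟨v.1 i, Submodule.subset_span ⟨v, rfl⟩, ?_⟩
    exact congrFun (congrArg Subtype.val hv) i
  have h6 := sup_eq_top_of_isBC hψ hBCi _ hsp
  exact eq_top_iff.2 (h6.ge.trans (sup_le_sup_left (Submodule.smul_mono_left hkerψ) _))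

/-- **Base change of bases.** -/
theorem isBas {Y' : Scheme.{u}} {g' : Y' ⟶ PZ n} {h : Y' ⟶ Y} (hg : h ≫ g = g') {A' : Type u} [CommRing A']
    {q' : Y' ⟶ Spec (CommRingCat.of A')} {φ : B →+* A'} (HP : IsPullback h q' q (Spec.map (CommRingCat.ofHom φ)))
    (m : ℕ) (hm : N ≤ m) {r : ℕ} {v : Fin r → Sec g q E} (hv : IsBas (TwSec g q E m) v) :
    IsBas (TwSec g' q' ((Scheme.Modules.pullback h).obj E) m) (fun j => pbW hg q q' (v j)) := by
  have hv1 : ∀ j, v j ∈ TwSec g q E m := fun j => by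
    rw [← hv.span]
    exact Submodule.subset_span ⟨j, rfl⟩
  let v' : Fin r → TwSec g q E m := fun j => ⟨v j, hv1 j⟩
  have h1 : LinearIndependent B v' := LinearIndependent.of_comp (TwSec g q E m).subtype hv.li
  have h2 : (⊤ : Submodule B (TwSec g q E m)) ≤ Submodule.span B (Set.range v') := by
    have h3 : Submodule.map (TwSec g q E m).subtype (Submodule.span B (Set.range v')) = TwSec g q E m := by
      rw [Submodule.map_span, ← Set.range_comp]
      exact hv.span
    intro x _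
    have h4 : x.1 ∈ Submodule.map (TwSec g q E m).subtype (Submodule.span B (Set.range v')) := by
      rw [h3]; exact x.2
    obtain ⟨z, hz, hzx⟩ := h4
    have : z = x := Subtype.ext hzx
    rwa [← this]
  obtain ⟨b', hb'⟩ := exists_basis_of_isBC (isBC hc hE hfl H hg HP m hm) (Module.Basis.mk h1 h2)
  have h5 : (fun j => pbW hg q q' (v j)) =
      (TwSec g' q' ((Scheme.Modules.pullback h).obj E) m).subtype ∘ b' := by
    funext j
    change _ = (b' j).1
    rw [hb', Module.Basis.mk_apply]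
    rfl
  rw [h5]
  refine ⟨b'.linearIndependent.map' _ (Submodule.ker_subtype _), ?_⟩
  rw [Set.range_comp, ← Submodule.map_span, b'.span_eq, Submodule.map_top, Submodule.range_subtype]

end main

end K679.CohBC
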