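import Groth.Agent.FGA.K277.FibChi
import Groth.Agent.Coherent.K585.Defs
import Groth.Agent.Variety.K425.SecBC

/-!
# Twisted sections and base change

`h : Y' ⟶ Y`, `g' = h ≫ g : Y' ⟶ P^n_ℤ`, `Y'` the base change of `Y` along `φ : A → A'`.

* `pbTw` : pull back of twisted sections `TwSec g q F d →+ TwSec g' q' (h^* F) d`;
* `pbTw_secEquiv` : compatible with `Γ(F ⊗ L, ⊤) ≃ TwSec`;
* `isBC_pbTw` : it is a base change map along `φ` if the sections of `F ⊗ L` commute with base change.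
-/

set_option autoImplicit false
universe u

open CategoryTheory CategoryTheory.Limits AlgebraicGeometry Opposite

namespace K679.TwBC

open Groth.Agent Fga.QTDefs Fga.QTPull Fga.QT8 K277.Frames K277.TwSecIso K277.FibChi CohqA.PullbackQCoh
  CohqA.BaseChangeMod CohqA.PullbackSections

section tm

variable {Y Y' : Scheme.{u}} (h : Y' ⟶ Y) (F : Y.Modules) {L : Y.Modules}

theorem pbSec_eq_res {M : Y.Modules} {U : Y.Opens} {U' : Y'.Opens} (hU : U' ≤ h ⁻¹ᵁ U) (x : Γ(M, U)) :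
    pbSec h M U U' hU x = resM _ hU (Fdesc.LocGen.pullSec h x) := rfl

theorem delta_pbSec (M N : Y.Modules) {U : Y.Opens} {U' : Y'.Opens} (hU : U' ≤ h ⁻¹ᵁ U) (m : Γ(M, U)) (n : Γ(N, U)) :
    (Ega3B.PullTensor.delta h M N).app U' (pbSec h _ U U' hU (Ega2.Tens.tmul m n)) =
      Ega2.Tens.tmul (pbSec h M U U' hU m) (pbSec h N U U' hU n) := by
  rw [pbSec_eq_res, app_resM, Ega3B.PullTensor.delta_pullSec]
  exact Ega2.Tens.tmul_res (homOfLE hU) _ _

theorem pbT_tm (hL : PicF.IsInvertible L) {U : Y.Opens} {U' : Y'.Opens} (hU : U' ≤ h ⁻¹ᵁ U) (ℓ : Γ(L, U))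
    (z : Γ(F, U)) : (pbT h F hL).hom.app U' (pbSec h (CohB1.tensorMod F L) U U' hU (tm F ℓ z)) =
      tm ((Scheme.Modules.pullback h).obj F) (pbSec h L U U' hU ℓ) (pbSec h F U U' hU z) := by
  have h1 : tm F ℓ z = Ega2.Tens.tmul z ℓ := rfl
  have h2 : tm ((Scheme.Modules.pullback h).obj F) (pbSec h L U U' hU ℓ) (pbSec h F U U' hU z) =
    Ega2.Tens.tmul (pbSec h F U U' hU z) (pbSec h L U U' hU ℓ) := rfl
  rw [h1, h2]
  have h3 : (pbT h F hL).hom.app U' (pbSec h (CohB1.tensorMod F L) U U' hU (Ega2.Tens.tmul z ℓ)) =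
    (Ega2.Tens.swap _ _).hom.app U' ((Ega3B.PullTensor.delta h L F).app U'
      (((Scheme.Modules.pullback h).map (Ega2.Tens.swap F L).hom).app U'
        (pbSec h (CohB1.tensorMod F L) U U' hU (Ega2.Tens.tmul z ℓ)))) := rfl
  rw [h3, pbSec_naturality]
  have h4 : (Ega2.Tens.swap F L).hom.app U (Ega2.Tens.tmul z ℓ) = Ega2.Tens.tmul ℓ z := Ega2.Tens.swapHom_tmul z ℓ
  rw [h4, delta_pbSec]
  exact Ega2.Tens.swapHom_tmul _ _

end tm

section Tw

variable {n : ℕ} {Y Y' : Scheme.{u}} {g : Y ⟶ PZ n} {g' : Y' ⟶ PZ n} {h : Y' ⟶ Y} (hg : h ≫ g = g')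
  {A A' : Type u} [CommRing A] [CommRing A'] {q : Y ⟶ Spec (CommRingCat.of A)}
  {q' : Y' ⟶ Spec (CommRingCat.of A')} {φ : A →+* A'} {F : Y.Modules}

/-- pull back of families of sections -/
noncomputable def pbW (q : Y ⟶ Spec (CommRingCat.of A)) (q' : Y' ⟶ Spec (CommRingCat.of A')) (v : Sec g q F) :
    Sec g' q' ((Scheme.Modules.pullback h).obj F) :=
  fun i => pbSec h F (V g i) (V g' i) (V_le hg i) (v i)

theorem pbW_apply (v : Sec g q F) (i : Fin (n + 1)) :
    pbW hg q q' v i = pbSec h F (V g i) (V g' i) (V_le hg i) (v i) := rfl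

theorem pbW_zero : pbW hg q q' (0 : Sec g q F) = 0 := funext fun _ => map_zero _

theorem pbW_add (v w : Sec g q F) : pbW hg q q' (v + w) = pbW hg q q' v + pbW hg q q' w :=
  funext fun _ => map_add _ _ _

theorem pbW_smul (hq : h ≫ q = q' ≫ Spec.map (CommRingCat.ofHom φ)) (a : A) (v : Sec g q F) :
    pbW hg q q' (a • v) = φ a • pbW hg q q' v := by
  funext i
  rw [sec_smul_apply, pbW_apply, sec_smul_apply, pbSec_smul, coeff_pull hq, pbW_apply]

theorem pbW_mem {d : ℕ} {v : Sec g q F} (hv : v ∈ TwSec g q F d) : pbW hg q q' v ∈ TwSec g' q' _ d := by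
  intro i k
  have hle : V g' i ⊓ V g' k ≤ h ⁻¹ᵁ (V g i ⊓ V g k) := inf_le_inf (V_le hg i) (V_le hg k)
  rw [pbW_apply, pbW_apply, pbSec_res h F (V_le hg i) hle inf_le_left inf_le_left,
    pbSec_res h F (V_le hg k) hle inf_le_right inf_le_right, hv i k, pbSec_smul, map_pow,
    ← appLE_resR h (V_le hg i) hle inf_le_left inf_le_left, y_pull hg]

theorem pbW_mulL (hq : h ≫ q = q' ≫ Spec.map (CommRingCat.ofHom φ)) (p : MvPolynomial (Fin (n + 1)) A)
    (v : Sec g q F) : pbW hg q q' (K585.Defs.mulL g q F p v) =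
      K585.Defs.mulL g' q' _ (MvPolynomial.map φ p) (pbW hg q q' v) := by
  funext i
  rw [pbW_apply, K585.Defs.mulL_apply, K585.Defs.mulL_apply, pbSec_smul, ev_pull hg hq, pbW_apply]

variable (F)

/-- Pull back of twisted sections. -/
noncomputable def pbTw (q : Y ⟶ Spec (CommRingCat.of A)) (q' : Y' ⟶ Spec (CommRingCat.of A')) (d : ℕ) :
    TwSec g q F d →+ TwSec g' q' ((Scheme.Modules.pullback h).obj F) d where
  toFun v := ⟨pbW hg q q' v.1, pbW_mem hg v.2⟩
  map_zero' := Subtype.ext (pbW_zero hg)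
  map_add' v w := Subtype.ext (pbW_add hg v.1 w.1)

@[simp] theorem pbTw_coe (d : ℕ) (v : TwSec g q F d) : (pbTw hg F q q' d v).1 = pbW hg q q' v.1 := rfl

variable {L : Y.Modules} {d : ℕ} (T : TwFr g L d) (hL : PicF.IsInvertible L)

theorem secEquiv_sec (z : Γ(CohB1.tensorMod F L, ⊤)) :
    secEquiv q' _ (T.pull hg) ((pbT h F hL).hom.app ⊤ (pbSec h _ ⊤ ⊤ le_top z)) =
      pbTw hg F q q' d (secEquiv q F T z) := by
  apply Subtype.ext
  funext i
  apply (tm_bijective ((Scheme.Modules.pullback h).obj F) ((T.pull hg).gen i)).1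
  rw [tm_secEquiv, ← app_resM, pbSec_res h _ le_top (V_le hg i) le_top le_top, ← tm_secEquiv q F T z i]
  exact pbT_tm h F hL (V_le hg i) (T.t i) _

include T hL in
/-- **Base change for twisted sections.** -/
theorem isBC_pbTw (H : IsPullback h q' q (Spec.map (CommRingCat.ofHom φ)))
    (hs : K425.SecBC.SBC H.w (CohB1.tensorMod F L)) : IsBC φ (pbTw hg F q q' d) := by
  let i1 := K425.SecBC.mS q (CohB1.tensorMod F L)
  let i2 := K425.SecBC.mS q' ((Scheme.Modules.pullback h).obj (CohB1.tensorMod F L))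
  let α : Γ(Spec (CommRingCat.of A), ⊤) →+* A := (Scheme.ΓSpecIso (CommRingCat.of A)).hom.hom
  let β : Γ(Spec (CommRingCat.of A'), ⊤) →+* A' := (Scheme.ΓSpecIso (CommRingCat.of A')).hom.hom
  have hα : Function.Bijective α := (Scheme.ΓSpecIso (CommRingCat.of A)).commRingCatIsoToRingEquiv.bijective
  have hβ : Function.Bijective β := (Scheme.ΓSpecIso (CommRingCat.of A')).commRingCatIsoToRingEquiv.bijective
  let m : Γ(CohB1.tensorMod F L, ⊤) →+ TwSec g q F d := (secEquiv q F T).toAddMonoidHom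
  let e : Γ((Scheme.Modules.pullback h).obj (CohB1.tensorMod F L), ⊤) →+
      Γ(CohB1.tensorMod ((Scheme.Modules.pullback h).obj F) ((Scheme.Modules.pullback h).obj L), ⊤) :=
    K425.SecBC.secMap (pbT h F hL).hom
  let nn : Γ((Scheme.Modules.pullback h).obj (CohB1.tensorMod F L), ⊤) →+
      TwSec g' q' ((Scheme.Modules.pullback h).obj F) d :=
    (secEquiv q' _ (T.pull hg)).toAddMonoidHom.comp e
  have key : ∀ {B : Type u} [CommRing B] {Z : Scheme.{u}} (p : Z ⟶ Spec (CommRingCat.of B))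
      (a : Γ(Spec (CommRingCat.of B), ⊤)), (p.appLE ⊤ ⊤ le_top).hom a =
        Fga.QTDefs.coeff p ⊤ ((Scheme.ΓSpecIso (CommRingCat.of B)).hom.hom a) := by
    intro B _ Z p a
    have h1 : (Scheme.ΓSpecIso (CommRingCat.of B)).inv.hom ((Scheme.ΓSpecIso (CommRingCat.of B)).hom.hom a) = a :=
      congr($((Scheme.ΓSpecIso (CommRingCat.of B)).hom_inv_id).hom a)
    have h2 : Fga.QTDefs.coeff p ⊤ ((Scheme.ΓSpecIso (CommRingCat.of B)).hom.hom a) =
      resR le_top (p.appTop.hom ((Scheme.ΓSpecIso (CommRingCat.of B)).inv.hom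
        ((Scheme.ΓSpecIso (CommRingCat.of B)).hom.hom a))) := rfl
    rw [h2, h1, resR_self]
    exact K425.SecBC.rS_apply p a
  have hm' : ∀ (r : Γ(Spec (CommRingCat.of A), ⊤)) (x : Γ(CohB1.tensorMod F L, ⊤)), m (r • x) = α r • m x := by
    intro r x
    change secEquiv q F T ((q.appLE ⊤ ⊤ le_top).hom r • x) = _
    rw [key q r, secEquiv_smul]
    rfl
  have hn' : ∀ (r : Γ(Spec (CommRingCat.of A'), ⊤))
      (x : Γ((Scheme.Modules.pullback h).obj (CohB1.tensorMod F L), ⊤)), nn (r • x) = β r • nn x := by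
    intro r x
    change secEquiv q' _ (T.pull hg) (e (r • x)) = _
    have h1 : e (r • x) = (q'.appLE ⊤ ⊤ le_top).hom r • e x := Scheme.Modules.Hom.app_smul _ _ _
    rw [h1, key q' r, secEquiv_smul]
    rfl
  have he : Function.Bijective e := (K425.SecBC.secIso q' (pbT h F hL)).bijective
  refine (isBC_congr_of_bijective α hα β hβ m (secEquiv q F T).bijective hm' nn
    ((secEquiv q' _ (T.pull hg)).bijective.comp he) hn' ?_ ?_).1 hs
  · ext a
    have h1 := Scheme.ΓSpecIso_naturality (CommRingCat.ofHom φ)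
    have h2 := congr(($h1).hom a)
    have h3 : K425.SecBC.rS (Spec.map (CommRingCat.ofHom φ)) a = (Spec.map (CommRingCat.ofHom φ)).appTop a :=
      K425.SecBC.rS_apply _ a
    change β (K425.SecBC.rS (Spec.map (CommRingCat.ofHom φ)) a) = φ (α a)
    rw [h3]
    exact h2
  · ext z : 1
    exact secEquiv_sec hg F T hL z

end Tw

end K679.TwBC
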